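import Groth.Agent.SncComplLib.Dense
import Groth.Agent.EtProperH0Lib.Main
import Groth.Agent.EtBcKilledLib.Comp
import Groth.Agent.EtCurveConsLib.Main
import Groth.Agent.CdCharPLib.Dev

/-!
# Direct image of constant sheaves from the complement of a relative strict normal crossings divisor
-/

set_option autoImplicit false
set_option linter.style.haveILetI false
set_option linter.unusedSectionVars false
set_option backward.isDefEq.respectTransparency false
set_option backward.isDefEq.respectTransparency.types false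
set_option synthInstance.maxHeartbeats 400000
set_option maxHeartbeats 1000000

universe u

open CategoryTheory CategoryTheory.Limits AlgebraicGeometry Opposite
open Groth.Agent Groth.Agent.EtShLib SGA1t

attribute [local instance] EtSliceLib.pullExact

noncomputable section

namespace SncComplLib

/-- The base change morphism on a sheaf pulled back from the base, through the units. -/
theorem unit_baseChange0 {U X U' X' : Scheme.{u}} (j : U ⟶ X) (g : X' ⟶ X) (j' : U' ⟶ X') (g' : U' ⟶ U)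
    (w : g' ≫ j = j' ≫ g) (G : EtCoh.Ab X) :
    ∃ θ : (EtCoh.pull j').obj ((EtCoh.pull g).obj G) ≅ (EtCoh.pull g').obj ((EtCoh.pull j).obj G),
      (EtCoh.pull g).map ((EtCoh.pullPushAdj j).unit.app G) ≫ EtCoh.baseChange0 j g j' g' w ((EtCoh.pull j).obj G) =
        (EtCoh.pullPushAdj j').unit.app ((EtCoh.pull g).obj G) ≫ (EtCoh.push j').map θ.hom := by
  let A1 := (EtCoh.pullPushAdj g).comp (EtCoh.pullPushAdj j')
  let Φ : EtCoh.push g' ⋙ EtCoh.push j ≅ EtCoh.push j' ⋙ EtCoh.push g :=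
    EtCoh.pushComp j g' ≪≫ EtCoh.pushCongr w ≪≫ (EtCoh.pushComp g j').symm
  let A2 := ((EtCoh.pullPushAdj j).comp (EtCoh.pullPushAdj g')).ofNatIsoRight Φ
  refine ⟨(Adjunction.leftAdjointUniq A1 A2).app G, ?_⟩
  apply ((EtCoh.pullPushAdj g).homEquiv _ _).injective
  have h1 := Adjunction.homEquiv_leftAdjointUniq_hom_app A1 A2 G
  rw [Adjunction.homEquiv_naturality_left, EtCoh.baseChange0]
  refine Eq.trans (congrArg (fun z => (EtCoh.pullPushAdj j).unit.app G ≫ z) (Equiv.apply_symm_apply _ _)) ?_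
  rw [Adjunction.homEquiv_unit]
  rw [Adjunction.homEquiv_unit] at h1
  refine Eq.trans ?_ (Eq.trans h1.symm ?_)
  · simp [A2, Φ, Adjunction.ofNatIsoRight]
  · simp [A1]

theorem isIso_baseChange0_of_unit {U X U' X' : Scheme.{u}} (j : U ⟶ X) (g : X' ⟶ X) (j' : U' ⟶ X') (g' : U' ⟶ U)
    (w : g' ≫ j = j' ≫ g) (G : EtCoh.Ab X) (h1 : IsIso ((EtCoh.pullPushAdj j).unit.app G))
    (h2 : IsIso ((EtCoh.pullPushAdj j').unit.app ((EtCoh.pull g).obj G))) {F : EtCoh.Ab U}
    (e : (EtCoh.pull j).obj G ≅ F) :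
    IsIso (EtCoh.baseChange0 j g j' g' w F) := by
  obtain ⟨θ, hθ⟩ := unit_baseChange0 j g j' g' w G
  haveI := h1
  haveI := h2
  haveI : IsIso ((EtCoh.pull g).map ((EtCoh.pullPushAdj j).unit.app G) ≫
      EtCoh.baseChange0 j g j' g' w ((EtCoh.pull j).obj G)) := by rw [hθ]; infer_instance
  haveI h3 : IsIso (EtCoh.baseChange0 j g j' g' w ((EtCoh.pull j).obj G)) :=
    IsIso.of_isIso_comp_left ((EtCoh.pull g).map ((EtCoh.pullPushAdj j).unit.app G)) _
  have hn := EtBcKilledLib.bc0_natural j g j' g' w e.hom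
  haveI : IsIso ((EtCoh.pull g).map ((EtCoh.push j).map e.hom) ≫ EtCoh.baseChange0 j g j' g' w F) := by
    rw [hn]; infer_instance
  exact IsIso.of_isIso_comp_left ((EtCoh.pull g).map ((EtCoh.push j).map e.hom)) _

variable {X S : Scheme.{u}} {f : X ⟶ S} {r : ℕ} {φ : Fin r → Γ(X, ⊤)}

/-- The unit on a constant sheaf. -/
theorem isIso_unit_const (hD : IsRelSNC f φ) (M : Type) [AddCommGroup M] :
    IsIso ((EtCoh.pullPushAdj (compl φ).ι).unit.app (EtCoh.const X M)) := by
  haveI h0 := isIso_unit_pull_local f (compl φ).ι (EtCoh.const S M) fun x hx => by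
    obtain ⟨O, h1, h2, h3⟩ := exists_nhd hD x (by simpa [Scheme.Opens.range_ι] using hx)
    exact ⟨O, h1, h2, fun y hy => by rw [Scheme.Opens.range_ι]; exact h3 y hy⟩
  let e := EtCore.pullConst f M
  have h2 := (EtCoh.pullPushAdj (compl φ).ι).unit.naturality e.hom
  haveI : IsIso ((𝟭 (EtCoh.Ab X)).map e.hom) := inferInstanceAs (IsIso e.hom)
  haveI : IsIso ((𝟭 (EtCoh.Ab X)).map e.hom ≫ (EtCoh.pullPushAdj (compl φ).ι).unit.app (EtCoh.const X M)) := by
    rw [h2]; infer_instance
  exact IsIso.of_isIso_comp_left ((𝟭 (EtCoh.Ab X)).map e.hom) _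

/-- The direct image of a constant sheaf is constant. -/
def pushConstIso (hD : IsRelSNC f φ) (M : Type) [AddCommGroup M] :
    EtCoh.const X M ≅ (EtCoh.push (compl φ).ι).obj (EtCoh.const (compl φ : Scheme.{u}) M) :=
  haveI := isIso_unit_const hD M
  asIso ((EtCoh.pullPushAdj (compl φ).ι).unit.app (EtCoh.const X M)) ≪≫
    (EtCoh.push (compl φ).ι).mapIso (EtCore.pullConst (compl φ).ι M)

theorem isConstructible (hD : IsRelSNC f φ) (M : Type) [AddCommGroup M] [Finite M] :
    EtPBC.IsConstructible ((EtCoh.push (compl φ).ι).obj (EtCoh.const (compl φ : Scheme.{u}) M)) :=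
  EtCurveConsLib.isConstructible_of_iso (pushConstIso hD M)
    (EtCurveConsLib.isConstructible_of_lc (CdCharPLib.lc_const M))

theorem topIso_inv_res (W : X.Opens) (a : Γ(X, ⊤)) :
    W.topIso.inv (X.presheaf.map (homOfLE le_top).op a) = W.ι.appTop a := by
  rw [Scheme.Opens.ι_appTop, Scheme.Opens.topIso_inv, ← ConcreteCategory.comp_apply]
  erw [← Functor.map_comp]
  rfl

variable {S' : Scheme.{u}} (h : S' ⟶ S)

/-- The pulled back functions. -/
abbrev pullFun (φ : Fin r → Γ(X, ⊤)) : Fin r → Γ(pullback f h, ⊤) := fun i => (pullback.fst f h).appTop (φ i)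

theorem compl_pullFun : compl (pullFun (f := f) h φ) = pullback.fst f h ⁻¹ᵁ compl φ := by
  show (pullback f h).basicOpen _ = _ ⁻¹ᵁ X.basicOpen _
  rw [Scheme.preimage_basicOpen_top, map_prod]

/-- Such divisors are stable under base change. -/
theorem isRelSNC_pullback (hD : IsRelSNC f φ) : IsRelSNC (pullback.snd f h) (pullFun (f := f) h φ) := by
  intro x hx
  let p := pullback.fst f h
  have hiff : ∀ i, x ∈ (pullback f h).basicOpen (pullFun (f := f) h φ i) ↔ p.base x ∈ X.basicOpen (φ i) := fun i => by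
    show x ∈ (pullback f h).basicOpen (p.appTop (φ i)) ↔ x ∈ p ⁻¹ᵁ X.basicOpen (φ i)
    rw [Scheme.preimage_basicOpen_top]
  obtain ⟨⟨i₀, hi₀⟩⟩ := hx
  obtain ⟨W, hxW, d, v, e, he, het, hv⟩ := hD (p.base x) ⟨⟨i₀, fun hh => hi₀ ((hiff i₀).2 hh)⟩⟩
  let c : vanishingAt (pullFun (f := f) h φ) x → vanishingAt φ (p.base x) :=
    fun i => ⟨i.1, fun hh => i.2 ((hiff i.1).2 hh)⟩
  refine ⟨p ⁻¹ᵁ W, hxW, d, fun k => (p ∣_ W).appTop (v k), fun i => e (c i),
    fun a b hab => Subtype.ext (congrArg Subtype.val (he hab) :), ?_, fun i => ?_⟩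
  · let g' := AffineSpace.homOfVector ((p ⁻¹ᵁ W).ι ≫ pullback.snd f h) fun k => (p ∣_ W).appTop (v k)
    have hw : g' ≫ AffineSpace.map (ULift.{u} (Fin d)) h = (p ∣_ W) ≫ AffineSpace.homOfVector (W.ι ≫ f) v := by
      apply AffineSpace.hom_ext
      · rw [Category.assoc, AffineSpace.map_over, Category.assoc, AffineSpace.homOfVector_over,
          AffineSpace.homOfVector_over_assoc, Category.assoc, ← pullback.condition, morphismRestrict_ι_assoc]
      · intro k
        rw [Scheme.Hom.comp_appTop, Scheme.Hom.comp_appTop, ConcreteCategory.comp_apply, ConcreteCategory.comp_apply,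
          AffineSpace.map_appTop_coord, AffineSpace.homOfVector_appTop_coord, AffineSpace.homOfVector_appTop_coord]
    haveI := het
    have hbig : IsPullback (p ∣_ W) (g' ≫ (𝔸(ULift.{u} (Fin d); S') ↘ S'))
        (AffineSpace.homOfVector (W.ι ≫ f) v ≫ (𝔸(ULift.{u} (Fin d); S) ↘ S)) h := by
      rw [AffineSpace.homOfVector_over, AffineSpace.homOfVector_over]
      exact (isPullback_morphismRestrict p W).paste_vert (IsPullback.of_hasPullback f h)
    exact MorphismProperty.of_isPullback (P := @Etale)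
      (IsPullback.of_bot hbig hw.symm (AffineSpace.isPullback_map h)) het
  · show (p ∣_ W).appTop (v (ULift.up (e (c i)))) = _
    rw [hv (c i), topIso_inv_res, topIso_inv_res]
    show (p ∣_ W).appTop (W.ι.appTop (φ i.1)) = (p ⁻¹ᵁ W).ι.appTop (p.appTop (φ i.1))
    rw [← ConcreteCategory.comp_apply, ← ConcreteCategory.comp_apply, ← Scheme.Hom.comp_appTop,
      ← Scheme.Hom.comp_appTop, morphismRestrict_ι]

/-- The pulled back family still cuts out such a divisor, so the unit is again an isomorphism. -/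
theorem isIso_unit_baseChange (hD : IsRelSNC f φ) (M : Type) [AddCommGroup M] :
    IsIso ((EtCoh.pullPushAdj (pullback.fst f h ⁻¹ᵁ compl φ).ι).unit.app
      ((EtCoh.pull (pullback.fst f h)).obj (EtCoh.const X M))) := by
  let p := pullback.fst f h
  let j := (p ⁻¹ᵁ compl φ).ι
  haveI h0 := isIso_unit_pull_local (pullback.snd f h) j (EtCoh.const S' M) fun x hx => by
    have hx' : x ∉ compl (pullFun (f := f) h φ) := by
      rw [compl_pullFun]
      simpa [j, p, Scheme.Opens.range_ι] using hx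
    obtain ⟨O, h1, h2, h3⟩ := exists_nhd (isRelSNC_pullback h hD) x hx'
    refine ⟨O, h1, h2, fun y hy => ?_⟩
    rw [Scheme.Opens.range_ι, ← compl_pullFun]
    exact h3 y hy
  let e := EtCore.pullConst (pullback.snd f h) M ≪≫ (EtCore.pullConst p M).symm
  have hn := (EtCoh.pullPushAdj j).unit.naturality e.hom
  haveI : IsIso ((𝟭 (EtCoh.Ab _)).map e.hom) := inferInstanceAs (IsIso e.hom)
  haveI : IsIso ((𝟭 (EtCoh.Ab _)).map e.hom ≫ (EtCoh.pullPushAdj j).unit.app ((EtCoh.pull p).obj (EtCoh.const X M))) := by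
    rw [hn]; infer_instance
  exact IsIso.of_isIso_comp_left ((𝟭 (EtCoh.Ab _)).map e.hom) _

theorem isIso_bc0 (hD : IsRelSNC f φ) (M : Type) [AddCommGroup M] :
    IsIso (EtCoh.baseChange0 (compl φ).ι (pullback.fst f h) ((pullback.fst f h ⁻¹ᵁ compl φ).ι)
      (pullback.fst f h ∣_ compl φ) (morphismRestrict_ι (pullback.fst f h) (compl φ))
      (EtCoh.const (compl φ : Scheme.{u}) M)) :=
  isIso_baseChange0_of_unit _ _ _ _ _ (EtCoh.const X M) (isIso_unit_const hD M) (isIso_unit_baseChange h hD M)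
    (EtCore.pullConst (compl φ).ι M)

theorem isIso_bc0_proper [IsProper f] (hD : IsRelSNC f φ) (M : Type) [AddCommGroup M]
    (w : (pullback.fst f h ∣_ compl φ) ≫ (compl φ).ι ≫ f =
      ((pullback.fst f h ⁻¹ᵁ compl φ).ι ≫ pullback.snd f h) ≫ h) :
    IsIso (EtCoh.baseChange0 ((compl φ).ι ≫ f) h ((pullback.fst f h ⁻¹ᵁ compl φ).ι ≫ pullback.snd f h)
      (pullback.fst f h ∣_ compl φ) w (EtCoh.const (compl φ : Scheme.{u}) M)) := by
  let p := pullback.fst f h
  let e' := p ∣_ compl φ
  let j := (compl φ).ι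
  let j' := (p ⁻¹ᵁ compl φ).ι
  let N := EtCoh.const (compl φ : Scheme.{u}) M
  have c : IsPullback p (pullback.snd f h) f h := IsPullback.of_hasPullback f h
  have c' : IsPullback e' j' j p := isPullback_morphismRestrict p (compl φ)
  have H := EtBcKilledLib.bc0_horiz f h (pullback.snd f h) p c j j' e' c' (j ≫ f) rfl (j' ≫ pullback.snd f h) rfl
    (c'.paste_vert c) N
  haveI := EtProperH0Lib.isIso_baseChange0 (f := f) (g := h) (f' := pullback.snd f h) (g' := p) c ((EtCoh.push j).obj N)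
  haveI : IsIso (EtCoh.baseChange0 j p j' e' c'.w N) := isIso_bc0 h hD M
  haveI := EtBcKilledLib.isIso_etPc j f (j ≫ f) rfl
  haveI := EtBcKilledLib.isIso_etPc j' (pullback.snd f h) (j' ≫ pullback.snd f h) rfl
  haveI : IsIso (EtCoh.baseChange0 (j ≫ f) h (j' ≫ pullback.snd f h) e' (c'.paste_vert c).w N ≫
      (DescSecLib.etPc j' (pullback.snd f h) (j' ≫ pullback.snd f h) rfl).app ((EtCoh.pull e').obj N)) := by
    rw [← H]
    infer_instance
  exact IsIso.of_isIso_comp_right _
    ((DescSecLib.etPc j' (pullback.snd f h) (j' ≫ pullback.snd f h) rfl).app ((EtCoh.pull e').obj N))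

end SncComplLib
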