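import Groth.Agent.SncComplLib.Unit
import Groth.Prelude.Def_SGA1t
import Groth.Agent.Unram17Lib.EtaleChartPullback

/-!
# The complement of a relative strict normal crossings divisor is fibrewise dense near the divisor
-/

set_option autoImplicit false
set_option linter.style.haveILetI false
set_option linter.unusedSectionVars false
set_option maxHeartbeats 1000000

universe u

open CategoryTheory CategoryTheory.Limits AlgebraicGeometry SGA1t

noncomputable section

namespace SncComplLib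

theorem mem_compl_iff {X : Scheme.{u}} {r : ℕ} (φ : Fin r → Γ(X, ⊤)) (x : X) :
    x ∈ compl φ ↔ ∀ i, x ∈ X.basicOpen (φ i) := by
  show x ∈ X.basicOpen (∏ i, φ i) ↔ _
  simp only [X.mem_basicOpen_top, map_prod, IsUnit.prod_iff, Finset.mem_univ, true_implies]

/-- The non-vanishing locus of a finite set of coordinates is dense in the fibres of affine space. -/
theorem dense_coord {S : Scheme.{u}} {d : ℕ} (J : Finset (ULift.{u} (Fin d))) (z : ↥(𝔸(ULift.{u} (Fin d); S))) :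
    z ∈ closure ({w | ∀ k ∈ J, w ∈ 𝔸(ULift.{u} (Fin d); S).basicOpen (AffineSpace.coord S k)} ∩
      {w | (𝔸(ULift.{u} (Fin d); S) ↘ S).base w = (𝔸(ULift.{u} (Fin d); S) ↘ S).base z}) := by
  let π := 𝔸(ULift.{u} (Fin d); S) ↘ S
  let s := π.base z
  have hirr := π.isIrreducible_preimage (AffineSpace.isOpenMap_over S) (isIrreducible_singleton (x := s))
  let T : Set ↥(𝔸(ULift.{u} (Fin d); S)) :=
    {w | ∀ k ∈ J, w ∈ 𝔸(ULift.{u} (Fin d); S).basicOpen (AffineSpace.coord S k)}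
  have hT : IsOpen T := by
    have h : T = ⋂ k ∈ J, (𝔸(ULift.{u} (Fin d); S).basicOpen (AffineSpace.coord S k) : Set _) := by
      ext w; simp [T]
    rw [h]
    exact isOpen_biInter_finset fun k _ => TopologicalSpace.Opens.isOpen _
  let σ : S ⟶ 𝔸(ULift.{u} (Fin d); S) := AffineSpace.homOfVector (𝟙 S) fun _ => 1
  have hne : ((π ⁻¹' {s}) ∩ T).Nonempty := by
    refine ⟨σ.base s, ?_, fun k _ => ?_⟩
    · show (σ ≫ π).base s = s
      rw [AffineSpace.homOfVector_over]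
      rfl
    · show s ∈ σ ⁻¹ᵁ 𝔸(ULift.{u} (Fin d); S).basicOpen (AffineSpace.coord S k)
      rw [Scheme.preimage_basicOpen_top, AffineSpace.homOfVector_appTop_coord, Scheme.basicOpen_of_isUnit _ isUnit_one]
      trivial
  have h := subset_closure_inter_of_isPreirreducible_of_isOpen hirr.isPreirreducible hT hne (show z ∈ π ⁻¹' {s} from rfl)
  rw [Set.inter_comm] at h
  exact h

variable {X S : Scheme.{u}} {f : X ⟶ S} {r : ℕ} {φ : Fin r → Γ(X, ⊤)}

/-- Near the divisor the space is smooth and the complement fibrewise dense. -/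
theorem exists_nhd (hD : IsRelSNC f φ) (x : X) (hx : x ∉ compl φ) :
    ∃ O : X.Opens, x ∈ O ∧ Smooth (O.ι ≫ f) ∧
      ∀ y ∈ O, y ∈ closure ((compl φ : Set X) ∩ {z : X | f.base z = f.base y}) := by
  classical
  rw [mem_compl_iff, not_forall] at hx
  obtain ⟨i₀, hi₀⟩ := hx
  obtain ⟨W, hxW, d, v, e, -, het, hv⟩ := hD x ⟨⟨i₀, hi₀⟩⟩
  haveI := het
  let g := AffineSpace.homOfVector (W.ι ≫ f) v
  have hgf : g ≫ (𝔸(ULift.{u} (Fin d); S) ↘ S) = W.ι ≫ f := AffineSpace.homOfVector_over _ _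
  haveI : Smooth (W.ι ≫ f) := by
    rw [← hgf]
    haveI : Smooth (𝔸(ULift.{u} (Fin d); S) ↘ S) := Unram17Lib.smooth_affineSpace_over _ S
    haveI : Smooth g := inferInstanceAs (Smooth (AffineSpace.homOfVector (W.ι ≫ f) v))
    infer_instance
  let O : X.Opens := W ⊓ ⟨⋂ i ∈ Finset.univ.filter (fun i => x ∈ X.basicOpen (φ i)), (X.basicOpen (φ i) : Set X),
    isOpen_biInter_finset fun i _ => TopologicalSpace.Opens.isOpen _⟩
  have hO : O ≤ W := inf_le_left
  refine ⟨O, ⟨hxW, ?_⟩, ?_, fun y hy => ?_⟩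
  · show x ∈ ⋂ i ∈ Finset.univ.filter (fun i => x ∈ X.basicOpen (φ i)), (X.basicOpen (φ i) : Set X)
    simp only [Set.mem_iInter, Finset.mem_filter]
    exact fun i hi => hi.2
  · rw [← X.homOfLE_ι hO, Category.assoc]
    infer_instance
  let J : Finset (ULift.{u} (Fin d)) :=
    (Finset.univ : Finset {i : Fin r // x ∉ X.basicOpen (φ i)}).image fun i => ULift.up (e ⟨i.1, i.2⟩)
  let T : Set ↥(𝔸(ULift.{u} (Fin d); S)) :=
    {w | ∀ k ∈ J, w ∈ 𝔸(ULift.{u} (Fin d); S).basicOpen (AffineSpace.coord S k)}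
  let w₀ : (W : Scheme.{u}) := ⟨y, hO hy⟩
  have h1 := dense_coord J (g.base w₀)
  have hgo : IsOpenMap g.base := g.isOpenMap
  have h2 : w₀ ∈ closure (g.base ⁻¹' (T ∩
      {w | (𝔸(ULift.{u} (Fin d); S) ↘ S).base w = (𝔸(ULift.{u} (Fin d); S) ↘ S).base (g.base w₀)})) := by
    rw [← hgo.preimage_closure_eq_closure_preimage g.continuous]
    exact h1
  have h3 : y ∈ closure (W.ι.base '' (g.base ⁻¹' (T ∩
      {w | (𝔸(ULift.{u} (Fin d); S) ↘ S).base w = (𝔸(ULift.{u} (Fin d); S) ↘ S).base (g.base w₀)}))) :=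
    map_mem_closure W.ι.continuous h2 fun _ h => Set.mem_image_of_mem _ h
  have h4 : y ∈ closure ((O : Set X) ∩ (W.ι.base '' (g.base ⁻¹' (T ∩
      {w | (𝔸(ULift.{u} (Fin d); S) ↘ S).base w = (𝔸(ULift.{u} (Fin d); S) ↘ S).base (g.base w₀)})))) :=
    O.isOpen.inter_closure ⟨hy, h3⟩
  refine closure_mono ?_ h4
  rintro _ ⟨hzO, w, ⟨hwT, hwf⟩, rfl⟩
  refine ⟨(mem_compl_iff φ _).2 fun i => ?_, ?_⟩
  · by_cases hi : x ∈ X.basicOpen (φ i)
    · have h : W.ι.base w ∈ ⋂ j ∈ Finset.univ.filter (fun j => x ∈ X.basicOpen (φ j)),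
          (X.basicOpen (φ j) : Set X) := hzO.2
      simp only [Set.mem_iInter] at h
      exact h i (Finset.mem_filter.2 ⟨Finset.mem_univ _, hi⟩)
    · have hk : g.base w ∈ 𝔸(ULift.{u} (Fin d); S).basicOpen (AffineSpace.coord S (ULift.up (e ⟨i, hi⟩))) :=
        hwT _ (Finset.mem_image.2 ⟨⟨i, hi⟩, Finset.mem_univ _, rfl⟩)
      have hk' : w ∈ g ⁻¹ᵁ 𝔸(ULift.{u} (Fin d); S).basicOpen (AffineSpace.coord S (ULift.up (e ⟨i, hi⟩))) := hk
      rw [Scheme.preimage_basicOpen_top, AffineSpace.homOfVector_appTop_coord, hv ⟨i, hi⟩] at hk'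
      show w ∈ W.ι ⁻¹ᵁ X.basicOpen (φ i)
      rw [Scheme.preimage_basicOpen_top, Scheme.Opens.ι_appTop]
      rw [Scheme.Opens.topIso_inv, ← ConcreteCategory.comp_apply] at hk'
      erw [← Functor.map_comp] at hk'
      exact hk'
  · show (W.ι ≫ f).base w = (W.ι ≫ f).base w₀
    rw [← hgf]
    exact hwf

end SncComplLib
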