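import Groth.Agent.FibDenseLib.Main
import Groth.Agent.EtShLib.Split
import Groth.Agent.EtArtinLib.OpenImm

/-!
# The unit of an open immersion, locally fibrewise dense in a smooth scheme
-/

set_option autoImplicit false
set_option linter.style.haveILetI false
set_option linter.unusedSectionVars false
set_option backward.isDefEq.respectTransparency false
set_option backward.isDefEq.respectTransparency.types false
set_option synthInstance.maxHeartbeats 400000
set_option maxHeartbeats 2000000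

universe u

open CategoryTheory CategoryTheory.Limits AlgebraicGeometry Opposite
open Groth.Agent Groth.Agent.EtShLib EtProperH0Lib FibDenseLib EtDescentLib

noncomputable section

namespace SncComplLib

variable {X S U : Scheme.{u}} (f : X ⟶ S) (j : U ⟶ X) [IsOpenImmersion j]

/-- On an étale object smooth over the base with fibrewise dense part over `U` the unit is bijective. -/
theorem isIso_unit_app (F : EtCoh.Ab S) (W : X.Etale) [Smooth (W.hom ≫ f)]
    (hd : ∀ z : W.left, z ∈ closure (((W.hom ⁻¹ᵁ j.opensRange : W.left.Opens) : Set W.left) ∩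
      {w | (W.hom ≫ f).base w = (W.hom ≫ f).base z})) :
    IsIso (((adjS AddCommGrpCat.{u + 1} j).unit.app ((pullS AddCommGrpCat.{u + 1} f).obj F)).hom.app (op W)) := by
  let 𝒜 := AddCommGrpCat.{u + 1}
  let G := (pullS 𝒜 f).obj F
  let PS := ((pPull 𝒜 S).obj F).obj
  let PX := ((pPull 𝒜 X).obj G).obj
  let Uo : W.left.Opens := W.hom ⁻¹ᵁ j.opensRange
  have hb := bijective_of_dense (P := PS ⋙ forget 𝒜) (hasGerms_ab S F) (f := W.hom ≫ f) Uo hd
  let c := (Over.mapPullbackAdj j).counit.app ((EtFppf.a X).obj W)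
  haveI : IsIso (PX.map c.op) := by
    have hr : Set.range (pullback.fst W.hom j) = Set.range Uo.ι := by
      rw [Scheme.Opens.range_ι, Scheme.Pullback.range_fst]
      rfl
    let e : (Over.map f).obj ((Over.map j).obj ((Over.pullback j).obj ((EtFppf.a X).obj W))) ≅
        Over.mk (Uo.ι ≫ W.hom ≫ f) := by
      refine Over.isoMk (IsOpenImmersion.isoOfRangeEq (pullback.fst W.hom j) Uo.ι hr) ?_
      show _ ≫ Uo.ι ≫ W.hom ≫ f = (pullback.snd W.hom j ≫ j) ≫ f
      rw [IsOpenImmersion.isoOfRangeEq_hom_fac_assoc, ← pullback.condition, Category.assoc]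
    have he : e.hom ≫ incl (W.hom ≫ f) Uo = (Over.map f).map c := by
      refine Over.OverMorphism.ext ?_
      show (IsOpenImmersion.isoOfRangeEq (pullback.fst W.hom j) Uo.ι hr).hom ≫ Uo.ι = c.left
      rw [IsOpenImmersion.isoOfRangeEq_hom_fac]
      simp [c]
      rfl
    haveI : IsIso (PS.map ((Over.map f).map c).op) := by
      rw [← he, op_comp, PS.map_comp]
      haveI : IsIso ((forget 𝒜).map (PS.map (incl (W.hom ≫ f) Uo).op)) := (isIso_iff_bijective _).2 hb
      haveI : IsIso (PS.map (incl (W.hom ≫ f) Uo).op) := isIso_of_reflects_iso _ (forget 𝒜)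
      infer_instance
    let M := (sheafToPresheaf _ _).mapIso ((mIso 𝒜 f).app F)
    have hM : PS.map ((Over.map f).map c).op ≫ M.hom.app _ = M.hom.app _ ≫ PX.map c.op := M.hom.naturality c.op
    haveI : IsIso (M.hom.app _ ≫ PX.map c.op) := hM ▸ inferInstance
    exact IsIso.of_isIso_comp_left (M.hom.app _) (PX.map c.op)
  haveI : IsIso (((pPull 𝒜 X).obj G).obj.map c.op) := ‹IsIso (PX.map c.op)›
  haveI : IsIso (((pAdj 𝒜 X).unit.app G).hom.app (op W)) := by
    haveI : IsIso ((forget 𝒜).map (((pAdj 𝒜 X).unit.app G).hom.app (op W))) :=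
      (isIso_iff_bijective _).2 (unit_app_bijective G W)
    exact isIso_of_reflects_iso _ (forget 𝒜)
  haveI : IsIso ((gamma j G).hom.app (op ((EtCoh.bc j).obj W))) :=
    inferInstanceAs (IsIso ((sheafToPresheaf _ _ ⋙ (evaluation _ _).obj (op ((EtCoh.bc j).obj W))).map (gamma j G)))
  haveI : IsIso (((adjS 𝒜 j).unit.app G).hom.app (op W) ≫ (gamma j G).hom.app (op ((EtCoh.bc j).obj W))) := by
    rw [gamma_app]
    infer_instance
  exact IsIso.of_isIso_comp_right _ ((gamma j G).hom.app (op ((EtCoh.bc j).obj W)))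

theorem isIso_map_unit_open (G : EtCoh.Ab X) : IsIso ((EtCoh.pull j).map ((EtCoh.pullPushAdj j).unit.app G)) := by
  haveI : IsIso ((EtCoh.pullPushAdj j).counit.app ((EtCoh.pull j).obj G)) :=
    counit_isIso_of_openImmersion j _
  have h := (EtCoh.pullPushAdj j).left_triangle_components G
  haveI : IsIso ((EtCoh.pull j).map ((EtCoh.pullPushAdj j).unit.app G) ≫
      (EtCoh.pullPushAdj j).counit.app ((EtCoh.pull j).obj G)) := h ▸ IsIso.id _
  exact IsIso.of_isIso_comp_right _ ((EtCoh.pullPushAdj j).counit.app ((EtCoh.pull j).obj G))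

theorem isIso_stk_unit_open (G : EtCoh.Ab X) {Ω : Type u} [Field Ω] [IsSepClosed Ω]
    (ξ : Spec (CommRingCat.of Ω) ⟶ X) (hξ : ξ.base default ∈ Set.range j.base) :
    IsIso ((stk (A := AddCommGrpCat.{u + 1}) ξ).map ((EtCoh.pullPushAdj j).unit.app G)) := by
  have hsub : Set.range ξ.base ⊆ Set.range j.base := by
    rintro _ ⟨z, rfl⟩
    rw [Subsingleton.elim z default]
    exact hξ
  obtain ⟨ζ, rfl⟩ : ∃ ζ, ξ = ζ ≫ j := ⟨IsOpenImmersion.lift j ξ hsub, (IsOpenImmersion.lift_fac _ _ _).symm⟩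
  haveI := isIso_map_unit_open j G
  haveI : IsIso ((EtCoh.pull j ⋙ stk (A := AddCommGrpCat.{u + 1}) ζ).map ((EtCoh.pullPushAdj j).unit.app G)) :=
    Functor.map_isIso (stk (A := AddCommGrpCat.{u + 1}) ζ) ((EtCoh.pull j).map ((EtCoh.pullPushAdj j).unit.app G))
  exact (NatIso.isIso_map_iff (stalkPull (A := AddCommGrpCat.{u + 1}) j ζ) ((EtCoh.pullPushAdj j).unit.app G)).2
    ‹_›

/-- If `X` is, off `U`, locally smooth over `S` with `U` fibrewise dense, the unit is an isomorphism on inverse images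
from the base. -/
theorem isIso_unit_pull_local (F : EtCoh.Ab S)
    (h : ∀ x : X, x ∉ Set.range j.base → ∃ O : X.Opens, x ∈ O ∧ Smooth (O.ι ≫ f) ∧
      ∀ y ∈ O, y ∈ closure (Set.range j.base ∩ {z : X | f.base z = f.base y})) :
    IsIso ((EtCoh.pullPushAdj j).unit.app ((EtCoh.pull f).obj F)) := by
  let G := (EtCoh.pull f).obj F
  let η : G ⟶ (EtCoh.push j).obj ((EtCoh.pull j).obj G) := (EtCoh.pullPushAdj j).unit.app G
  refine isIso_of_stalks (A := AddCommGrpCat.{u + 1}) η fun Ω _ _ ξ => ?_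
  by_cases hξ : ξ.base default ∈ Set.range j.base
  · exact isIso_stk_unit_open j G ξ hξ
  obtain ⟨O, hxO, hsm, hd⟩ := h _ hξ
  have key : ∀ (V : X.Etale), Set.range V.hom.base ⊆ (O : Set X) → IsIso (η.hom.app (op V)) := by
    intro V hV
    haveI : Etale V.hom := V.prop
    haveI := hsm
    have hr : Set.range V.hom ⊆ Set.range O.ι := by rw [Scheme.Opens.range_ι]; exact hV
    haveI : Etale (IsOpenImmersion.lift O.ι V.hom hr ≫ O.ι) := by rw [IsOpenImmersion.lift_fac]; infer_instance
    haveI : Etale (IsOpenImmersion.lift O.ι V.hom hr) :=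
      MorphismProperty.of_postcomp (@Etale) (W' := @Etale) _ O.ι (inferInstance : Etale O.ι) ‹_›
    haveI : Smooth (V.hom ≫ f) := by
      rw [← IsOpenImmersion.lift_fac O.ι V.hom hr, Category.assoc]
      infer_instance
    refine isIso_unit_app f j F V fun z => ?_
    have h1 : z ∈ V.hom ⁻¹' closure (Set.range j ∩ {y : X | f.base y = f.base (V.hom z)}) :=
      hd (V.hom z) (hV ⟨z, rfl⟩)
    rw [V.hom.isOpenMap.preimage_closure_eq_closure_preimage V.hom.continuous] at h1
    exact h1
  have refine' : ∀ (V : X.Etale) (v : Fib ξ V), ∃ (V' : X.Etale) (g : V' ⟶ V) (v' : Fib ξ V'),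
      v'.map g = v ∧ Set.range V'.hom.base ⊆ (O : Set X) := by
    intro V v
    obtain ⟨V', g, v', hv', hg⟩ := exists_open_below ξ V v (V.hom ⁻¹ᵁ O) (by
      show V.hom.base (v.hom.base default) ∈ O
      rw [show V.hom.base (v.hom.base default) = ξ.base default from congrArg (fun t => t.base default) v.w]
      exact hxO)
    refine ⟨V', g, v', hv', ?_⟩
    rintro _ ⟨z, rfl⟩
    rw [← MorphismProperty.Over.w g]
    exact hg ⟨z, rfl⟩
  rw [ConcreteCategory.isIso_iff_bijective]
  constructor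
  · intro p q hpq
    obtain ⟨V₀, v₀, a₀, rfl⟩ := exists_germ ξ p
    obtain ⟨V₁, g, v₁, b, rfl, rfl⟩ := exists_germ_below ξ q V₀ v₀
    rw [← germ_res_apply] at hpq ⊢
    rw [germ_natural_apply, germ_natural_apply, germ_eq_iff] at hpq
    obtain ⟨V₂, g₂, v₂, rfl, he⟩ := hpq
    obtain ⟨V₃, g₃, v₃, rfl, hV₃⟩ := refine' V₂ v₂
    haveI := key V₃ hV₃
    rw [← germ_res_apply, ← germ_res_apply, ← germ_res_apply, ← germ_res_apply]
    refine congrArg _ ((ConcreteCategory.bijective_of_isIso (η.hom.app (op V₃))).1 ?_)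
    simp only [NatTrans.naturality_apply] at he ⊢
    exact congrArg _ he
  · intro t
    obtain ⟨V₀, v₀, b₀, rfl⟩ := exists_germ ξ t
    obtain ⟨V₁, g, v₁, rfl, hV₁⟩ := refine' V₀ v₀
    haveI := key V₁ hV₁
    obtain ⟨a, ha⟩ := (ConcreteCategory.bijective_of_isIso (η.hom.app (op V₁))).2
      (((EtCoh.push j).obj ((EtCoh.pull j).obj G)).obj.map g.op b₀)
    exact ⟨germ ξ G V₁ v₁ a, ((germ_natural_apply ξ η V₁ v₁ a).trans (by rw [ha])).trans
      (germ_res_apply ξ ((EtCoh.push j).obj ((EtCoh.pull j).obj G)) g v₁ b₀)⟩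

end SncComplLib
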